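import Groth.Agent.ProjMor.Sym
import Groth.Agent.ProjMor.PullSec
import Groth.Agent.GrT.TwistMul
import Groth.Agent.ProjLib.ClosedSub
import Groth.Agent.GrT.Dehom
import Groth.Prelude.Def_ProjUP

/-!
A closed subscheme of `Proj` is cut out by the homogeneous forms vanishing on it.
-/

set_option autoImplicit false
set_option backward.isDefEq.respectTransparency false
set_option backward.isDefEq.respectTransparency.types false
set_option linter.style.haveILetI false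
set_option maxHeartbeats 1000000

universe u

open CategoryTheory CategoryTheory.Limits AlgebraicGeometry TopologicalSpace Opposite
open Groth.Agent.QC (res resO res_res res_smul res_self)
open HomogeneousLocalization

noncomputable section

namespace Groth.Agent.ProjClosed

variable {R A : Type u} [CommRing R] [CommRing A] [Algebra R A] {𝒜 : ℕ → Submodule R A} [GradedAlgebra 𝒜]

/-- a form of degree `d` is its dehomogenisation times the generator `g ^ d` -/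
lemma res_degSection {g a : A} (hg : g ∈ 𝒜 1) {d : ℕ} (ha : a ∈ 𝒜 d) :
    res (GrTilde.tilde 𝒜 𝒜 (d : ℤ)) (le_top : Proj.basicOpen 𝒜 g ≤ ⊤) (GrT.degSection ha) =
      GrT.deh 𝒜 hg a • res (GrTilde.tilde 𝒜 𝒜 (d : ℤ)) le_top (GrT.degSection (GrT.pow_mem_one 𝒜 hg d)) := by
  refine GrT.pt_ext 𝒜 𝒜 (M := A) fun y => ?_
  have hy := GrT.not_mem_pow 𝒜 (GrT.not_mem_of_mem 𝒜 le_rfl y) d
  have h1 : (1 : A) ∉ y.1.asHomogeneousIdeal :=
    fun h => y.1.isPrime.ne_top ((Ideal.eq_top_iff_one _).mpr h)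
  rw [GrT.pt_smul, GrT.deh_of_mem 𝒜 hg ha]
  change GrT.fr 𝒜 y.1 a 1 h1 = (Localization.mk a ⟨g ^ d, hy⟩ : Twist.Loc 𝒜 y.1) • GrT.fr 𝒜 y.1 (g ^ d) 1 h1
  rw [GrT.loc_smul_fr]
  exact GrT.fr_congr 𝒜 y.1 _ _ (by simp only [smul_eq_mul, mul_one, one_mul]; ring)

/-- the global section of `O(d)` of a form of degree `d` -/
def sect {a : A} {d : ℕ} (ha : a ∈ 𝒜 d) : Γ(Twist.twist 𝒜 (d : ℤ), ⊤) := GrT.degSection ha

variable {Z : Scheme.{u}} (i : Z ⟶ Proj 𝒜)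

/-- forms of degree `d` vanishing on `Z` vanish after dehomogenisation -/
lemma res_pullSec_eq {g a : A} (hg : g ∈ 𝒜 1) {d : ℕ} (ha : a ∈ 𝒜 d) :
    res _ (le_top : i ⁻¹ᵁ Proj.basicOpen 𝒜 g ≤ ⊤)
        (ProjUP.pullSec i (Twist.twist 𝒜 (d : ℤ)) (sect ha)) =
      (i.app (Proj.basicOpen 𝒜 g)).hom (GrT.deh 𝒜 hg a) • ProjMor.eta i (Twist.twist 𝒜 (d : ℤ)) (Proj.basicOpen 𝒜 g)
        (res (Twist.twist 𝒜 (d : ℤ)) le_top (sect (GrT.pow_mem_one 𝒜 hg d))) := by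
  have e : res (Twist.twist 𝒜 (d : ℤ)) (le_top : Proj.basicOpen 𝒜 g ≤ ⊤) (sect ha) =
      GrT.deh 𝒜 hg a • res (Twist.twist 𝒜 (d : ℤ)) le_top (sect (GrT.pow_mem_one 𝒜 hg d)) := res_degSection hg ha
  rw [ProjMor.res_pullSec i _ (sect ha) (U := Proj.basicOpen 𝒜 g) le_rfl, e, res_self, ProjMor.eta_smul]

variable (hA : ProjMor.GenDegOne 𝒜)
include hA

lemma cover_pow (d : ℕ) (x : ProjectiveSpectrum 𝒜) : ∃ g ∈ 𝒜 d, g ∉ x.asHomogeneousIdeal := by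
  obtain ⟨g, hg, hgx⟩ := ProjMor.exists_notMem hA x
  exact ⟨g ^ d, GrT.pow_mem_one 𝒜 hg d, GrT.not_mem_pow 𝒜 hgx d⟩

lemma isGen_eta {g : A} (hg : g ∈ 𝒜 1) (d : ℕ) :
    TMul.IsGen (ProjMor.eta i (Twist.twist 𝒜 (d : ℤ)) (Proj.basicOpen 𝒜 g)
      (res (Twist.twist 𝒜 (d : ℤ)) le_top (sect (GrT.pow_mem_one 𝒜 hg d)))) := by
  have hM : PicF.IsInvertible (Twist.twist 𝒜 (d : ℤ)) := GrT.isInvertible_twist (ProjMor.exists_notMem hA) d
  let s := sect (GrT.pow_mem_one 𝒜 hg d)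
  have e : TMul.homOf (L := Twist.twist 𝒜 (d : ℤ)) s = GrT.homOfSection _ s :=
    TMul.hom_ext_val ((TMul.val_homOf _ ⊤).trans
      ((GrT.homOfSection_app _ s ⊤ 1).trans (one_smul _ _)).symm)
  have hloc : i ⁻¹ᵁ Proj.basicOpen 𝒜 g ≤ CohB1.genLocus _ (TMul.homOf
      (L := (Scheme.Modules.pullback i).obj (Twist.twist 𝒜 (d : ℤ))) (ProjUP.pullSec i _ s)) := by
    rw [ProjMor.genLocus_pullSec i hM s, e]
    refine i.preimage_mono (le_trans (fun y hy => (ProjectiveSpectrum.mem_basicOpen 𝒜 _ y).mpr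
      (GrT.not_mem_pow 𝒜 ((ProjectiveSpectrum.mem_basicOpen 𝒜 g y).mp hy) d)) ?_)
    exact (GrT.genLocus_degSection (cover_pow hA d) (GrT.pow_mem_one 𝒜 hg d)).ge
  have := (TMul.isGen_genLocus (TMul.homOf
      (L := (Scheme.Modules.pullback i).obj (Twist.twist 𝒜 (d : ℤ))) (ProjUP.pullSec i _ s))).res hloc
  rw [TMul.val_homOf, res_res, ProjMor.res_pullSec i _ s (U := Proj.basicOpen 𝒜 g) le_rfl, res_self] at this
  exact this

lemma app_deh_eq_zero {g a : A} (hg : g ∈ 𝒜 1) {d : ℕ} (ha : a ∈ 𝒜 d)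
    (h : ProjUP.pullSec i (Twist.twist 𝒜 (d : ℤ)) (sect ha) = 0) :
    (i.app (Proj.basicOpen 𝒜 g)).hom (GrT.deh 𝒜 hg a) = 0 := by
  refine ((isGen_eta i hA hg d) (i ⁻¹ᵁ Proj.basicOpen 𝒜 g) le_rfl).1 ?_
  simp only [res_self, zero_smul]
  rw [← res_pullSec_eq i hg ha, h, map_zero]

omit hA in
lemma basicOpen_deh_le {g h : A} (hg : g ∈ 𝒜 1) (hh : h ∈ 𝒜 1) :
    (Proj 𝒜).basicOpen (GrT.deh 𝒜 hh g) ≤ Proj.basicOpen 𝒜 g := by
  rw [GrT.deh_of_mem 𝒜 hh hg, GrT.away]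
  have e : Away.mk 𝒜 hh 1 g (GrT.mem_smul_one 𝒜 hg) = Away.isLocalizationElem hh hg := by
    simp [Away.isLocalizationElem]
  rw [e, ProjLib.basicOpen_awayToSection 𝒜 hg hh one_pos one_pos, Proj.basicOpen_mul]
  exact inf_le_right

/-- forms killed on a chart vanish on `Z` after multiplication by a power -/
lemma exists_pow_pullSec_eq_zero [IsClosedImmersion i] {ι : Type} [Finite ι] (c : ι → A) (hc : ∀ j, c j ∈ 𝒜 1)
    (hcov : ⨆ j, Proj.basicOpen 𝒜 (c j) = ⊤) {g a : A} (hg : g ∈ 𝒜 1) {d : ℕ} (ha : a ∈ 𝒜 d)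
    (h : (i.app (Proj.basicOpen 𝒜 g)).hom (GrT.deh 𝒜 hg a) = 0) :
    ∃ (k : ℕ) (hk : g ^ k * a ∈ 𝒜 (k + d)),
      ProjUP.pullSec i (Twist.twist 𝒜 ((k + d : ℕ) : ℤ)) (sect hk) = 0 := by
  cases nonempty_fintype ι
  have hj : ∀ j, ∃ k, ((i.app (Proj.basicOpen 𝒜 (c j))).hom (GrT.deh 𝒜 (hc j) g)) ^ k *
      (i.app (Proj.basicOpen 𝒜 (c j))).hom (GrT.deh 𝒜 (hc j) a) = 0 := fun j => by
    let D := Proj.basicOpen 𝒜 (c j)
    let D' := Proj.basicOpen 𝒜 g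
    let W := (Proj 𝒜).basicOpen (GrT.deh 𝒜 (hc j) g)
    have hW1 : W ≤ D := (Proj 𝒜).basicOpen_le _
    have hW2 : W ≤ D' := basicOpen_deh_le hg (hc j)
    have haff : IsAffineOpen (i ⁻¹ᵁ D) := (ProjLib.isAffineOpen_basicOpen 𝒜 (hc j) one_pos).preimage i
    refine exists_pow_mul_eq_zero_of_res_basicOpen_eq_zero_of_isCompact Z haff.isCompact _ _ ?_
    have e := GrT.deh_cross 𝒜 (hc j) hg ha hW1 hW2
    have hn : ∀ {V : (Proj 𝒜).Opens} (hV : W ≤ V) (x : Γ(Proj 𝒜, V)),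
        resO Z (i.preimage_mono hV) ((i.app V).hom x) = (i.app W).hom (resO (Proj 𝒜) hV x) := fun hV x =>
      (ConcreteCategory.congr_hom (i.naturality (homOfLE hV).op) x).symm
    have h0 : resO Z (i.preimage_mono hW1) ((i.app D).hom (GrT.deh 𝒜 (hc j) a)) = 0 := by
      rw [hn hW1, e, map_mul, ← hn hW2, h, map_zero, mul_zero]
    have hle : Z.basicOpen ((i.app D).hom (GrT.deh 𝒜 (hc j) g)) ≤ i ⁻¹ᵁ W :=
      (Scheme.preimage_basicOpen i (GrT.deh 𝒜 (hc j) g)).ge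
    have := congrArg (resO Z hle) h0
    rw [map_zero, Groth.Agent.QC.resO_resO] at this
    exact this
  choose k hk using hj
  let K := Finset.univ.sup k
  have hmem : g ^ K * a ∈ 𝒜 (K + d) := SetLike.mul_mem_graded (GrT.pow_mem_one 𝒜 hg K) ha
  refine ⟨K, hmem, Groth.Agent.QC.section_eq_of_locally fun z _ => ?_⟩
  obtain ⟨j, hzj⟩ := Opens.mem_iSup.1 (hcov.ge (show i.base z ∈ ⊤ from trivial))
  refine ⟨i ⁻¹ᵁ Proj.basicOpen 𝒜 (c j), le_top, hzj, ?_⟩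
  have hKj : K = k j + (K - k j) := (Nat.add_sub_of_le (Finset.le_sup (f := k) (Finset.mem_univ j))).symm
  rw [map_zero, res_pullSec_eq i (hc j) hmem, map_mul, map_pow, map_mul, map_pow]
  conv_lhs => arg 1; arg 1; rw [hKj]
  rw [pow_add, mul_right_comm, hk, zero_mul, zero_smul]

variable {B : Type u} [CommRing B] [Algebra R B] {ℬ : ℕ → Submodule R B} [GradedAlgebra ℬ] (φ : 𝒜 →+*ᵍ ℬ)
  (hφ : HomogeneousIdeal.irrelevant ℬ ≤ (HomogeneousIdeal.irrelevant 𝒜).map φ)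

omit hA in
lemma map_app_deh_eq_zero_iff {g a : A} (hg : g ∈ 𝒜 1) {d : ℕ} (ha : a ∈ 𝒜 d) :
    ((Proj.map φ hφ).app (Proj.basicOpen 𝒜 g)).hom (GrT.deh 𝒜 hg a) = 0 ↔ ∃ k, φ (g ^ k * a) = 0 := by
  rw [GrT.deh_of_mem 𝒜 hg ha, GrT.away, ProjLib.map_app_awayToSection 𝒜 φ hφ hg,
    ← ProjLib.away_map_mk_eq_zero_iff 𝒜 φ hg d a (GrT.mem_smul_one 𝒜 ha)]
  exact ⟨fun h => (ProjLib.awayToSection_bijective ℬ (Graded.map_mem φ hg) one_pos).1 (h.trans (map_zero _).symm),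
    fun h => by rw [h, map_zero]⟩

/-- `Z = Proj B` for `B` the quotient by the forms vanishing on `Z` -/
theorem exists_iso [IsClosedImmersion i] {ι : Type} [Finite ι] (c : ι → A) (hc : ∀ j, c j ∈ 𝒜 1)
    (hcov : ⨆ j, Proj.basicOpen 𝒜 (c j) = ⊤) (hs : Function.Surjective φ)
    (hker : ∀ (d : ℕ) (a : A) (ha : a ∈ 𝒜 d), φ a = 0 ↔
      ProjUP.pullSec i (Twist.twist 𝒜 (d : ℤ)) (sect ha) = 0) :
    ∃ e : Z ≅ Proj ℬ, e.hom ≫ Proj.map φ hφ = i := by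
  haveI := ProjLib.isClosedImmersion_map 𝒜 φ hφ hs
  let r := Proj.map φ hφ
  have hk : i.ker = r.ker := by
    refine Scheme.IdealSheafData.ext_of_iSup_eq_top
      (fun j => ⟨Proj.basicOpen 𝒜 (c j), ProjLib.isAffineOpen_basicOpen 𝒜 (hc j) one_pos⟩) hcov fun j => ?_
    rw [Scheme.Hom.ker_apply, Scheme.Hom.ker_apply]
    ext x
    obtain ⟨d, a, ha, -, rfl⟩ := GrT.exists_away 𝒜 (hc j) one_pos x
    have ha' : a ∈ 𝒜 d := by simpa using ha
    rw [RingHom.mem_ker, RingHom.mem_ker, ← GrT.deh_of_mem 𝒜 (hc j) ha', map_app_deh_eq_zero_iff φ hφ (hc j) ha']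
    constructor
    · intro h
      obtain ⟨k, hk, h0⟩ := exists_pow_pullSec_eq_zero i hA c hc hcov (hc j) ha' h
      exact ⟨k, (hker _ _ hk).2 h0⟩
    · rintro ⟨k, hk0⟩
      have hmem : c j ^ k * a ∈ 𝒜 (k + d) := SetLike.mul_mem_graded (GrT.pow_mem_one 𝒜 (hc j) k) ha'
      have h := app_deh_eq_zero i hA (hc j) hmem ((hker _ _ hmem).1 hk0)
      rw [map_mul, map_pow, GrT.deh_self, one_pow, one_mul] at h
      exact h
  refine ⟨⟨IsClosedImmersion.lift r i hk.ge, IsClosedImmersion.lift i r hk.le, ?_, ?_⟩,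
    IsClosedImmersion.lift_fac r i hk.ge⟩
  · rw [← cancel_mono i, Category.assoc, IsClosedImmersion.lift_fac, IsClosedImmersion.lift_fac, Category.id_comp]
  · rw [← cancel_mono r, Category.assoc, IsClosedImmersion.lift_fac, IsClosedImmersion.lift_fac, Category.id_comp]

end Groth.Agent.ProjClosed
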